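import Groth.Prelude.Def_Red
import Groth.Agent.S1629
import Groth.Agent.Grpsch.AbBC
import Groth.Agent.Sga3C.GeomRed
import Groth.Agent.Books.AlgPtsGrp

/-!
# The reduction of a group scheme is a smooth subgroup after a finite purely inseparable extension
-/

set_option autoImplicit false
universe u
open CategoryTheory CategoryTheory.Limits MonoidalCategory CartesianMonoidalCategory MonObj GrpObj AlgebraicGeometry

namespace K770.RedSub

/-- `Spec k' ⟶ Spec k`. -/
noncomputable abbrev bs (k k' : Type u) [Field k] [Field k'] [Algebra k k'] :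
    Spec (CommRingCat.of k') ⟶ Spec (CommRingCat.of k) := Spec.map (CommRingCat.ofHom (algebraMap k k'))

theorem surjective_subschemeι_nilradical (X : Scheme.{u}) : Surjective X.nilradical.subschemeι := by
  refine ⟨Set.range_eq_univ.1 ?_⟩
  rw [Scheme.IdealSheafData.range_subschemeι, Scheme.support_nilradical]
  rfl

/-- A geometrically reduced closed subscheme with the same space is a smooth subgroup. -/
theorem exists_grpObj {k : Type u} [Field k] {G F : Over (Spec (CommRingCat.of k))} [GrpObj G] [LocallyOfFiniteType G.hom]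
    (j : F ⟶ G) [IsClosedImmersion j.left] [Surjective j.left] [GeometricallyReduced F.hom] :
    ∃ _ : GrpObj F, IsMonHom j ∧ Smooth F.hom ∧ IsReduced F.left := by
  have hFred : IsReduced F.left := by
    have h := Groth.Agent.Sga3C.GeomRed.isReduced_pullback F.hom (𝟙 (Spec (CommRingCat.of k)))
    exact isReduced_of_isOpenImmersion (inv (pullback.fst F.hom (𝟙 (Spec (CommRingCat.of k)))))
  have hFF : IsReduced (F ⊗ F).left := by
    change IsReduced (pullback F.hom F.hom)
    exact Groth.Agent.Sga3C.GeomRed.isReduced_pullback F.hom F.hom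
  have h1 : IsReduced (𝟙_ (Over (Spec (CommRingCat.of k)))).left := by
    change IsReduced (Spec (CommRingCat.of k))
    infer_instance
  have hs : ∀ (T : Over (Spec (CommRingCat.of k))) (f : T ⟶ G), Set.range f.left ⊆ Set.range j.left := by
    intro T f
    rw [Set.range_eq_univ.2 j.left.surjective]
    exact Set.subset_univ _
  obtain ⟨m, hm⟩ := Groth.Agent.Books.AlgPtsGrp.exists_lift j ((fst F F ≫ j) * (snd F F ≫ j)) (hs _ _)
  obtain ⟨e, he⟩ := Groth.Agent.Books.AlgPtsGrp.exists_lift j η[G] (hs _ _)
  obtain ⟨v, hv⟩ := Groth.Agent.Books.AlgPtsGrp.exists_lift j j⁻¹ (hs _ _)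
  obtain ⟨g, hg⟩ := Groth.Agent.Books.AlgPtsGrp.exists_grpObj j m hm e he v hv
  have hlft : LocallyOfFiniteType F.hom := by
    rw [← Over.w j]
    infer_instance
  exact ⟨g, hg, Groth.Agent.Grpsch.AbBC.smooth_hom F, hFred⟩

theorem exists_smooth_red {k : Type u} [Field k] (G : Over (Spec (CommRingCat.of k))) [GrpObj G] [LocallyOfFiniteType G.hom]
    [QuasiCompact G.hom] :
    ∃ (k' : Type u) (_ : Field k') (_ : Algebra k k') (_ : FiniteDimensional k k') (_ : IsPurelyInseparable k k')
      (F : Over (Spec (CommRingCat.of k'))) (_ : GrpObj F) (j : F ⟶ Red.bc (bs k k') G),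
      IsMonHom j ∧ IsClosedImmersion j.left ∧ Surjective j.left ∧ Smooth F.hom ∧ IsReduced F.left := by
  let _ : G.left.Over (Spec (CommRingCat.of k)) := ⟨G.hom⟩
  have hlft : LocallyOfFiniteType (G.left ↘ Spec (CommRingCat.of k)) := ‹LocallyOfFiniteType G.hom›
  have hirr : (irreducibleComponents (G.left : Type u)).Finite := by
    have h1 : IsLocallyNoetherian G.left := LocallyOfFiniteType.isLocallyNoetherian G.hom
    have h2 : CompactSpace G.left := (quasiCompact_iff_compactSpace G.hom).1 ‹_›
    have h3 : IsNoetherian G.left := {}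
    exact TopologicalSpace.NoetherianSpace.finite_irreducibleComponents
  obtain ⟨k', _, _, hfd, hpi, hgr⟩ := Groth.Agent.S1629.result k G.left hirr
  let F : Over (Spec (CommRingCat.of k')) := Over.mk ((Curv2.bc k G.left k').nilradical.subschemeι ≫ Curv2.bcSnd k G.left k')
  let j : F ⟶ Red.bc (bs k k') G := Over.homMk (Curv2.bc k G.left k').nilradical.subschemeι rfl
  have hj1 : IsClosedImmersion j.left := inferInstanceAs (IsClosedImmersion (Curv2.bc k G.left k').nilradical.subschemeι)
  have hj2 : Surjective j.left := surjective_subschemeι_nilradical _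
  have hgr' : GeometricallyReduced F.hom := hgr
  have hlft' : LocallyOfFiniteType (Red.bc (bs k k') G).hom := inferInstanceAs (LocallyOfFiniteType (pullback.snd _ _))
  obtain ⟨g, hg, hsm, hr⟩ := exists_grpObj j
  exact ⟨k', inferInstance, inferInstance, hfd, hpi, F, g, j, hg, hj1, hj2, hsm, hr⟩

end K770.RedSub
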