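import Groth.Prelude.Def_WeilRes
import Groth.Agent.TateLoc.K770.RedSub
import Groth.Agent.AbVar.K509.WeilLft
import Groth.Agent.Sga3.H830.AlgGrpAb
import Groth.Agent.S0348
import Groth.Agent.S10830
import Groth.Agent.S11146
import Groth.Agent.S6084
import Groth.Agent.Grpsch.KerMul
import Groth.Agent.TateLoc.K809.FieldSeq
import Groth.Agent.CGrpSh.K731.Basic
import Groth.Agent.AlgSp.K595.DescInst

/-!
# A connected commutative group scheme without smooth reduction has a kernel of smaller dimension
-/

set_option autoImplicit false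
universe u
open CategoryTheory CategoryTheory.Limits MonoidalCategory CartesianMonoidalCategory MonObj GrpObj AlgebraicGeometry Opposite

namespace K770.InsepKer

open K770.RedSub

variable {k : Type u} [Field k]

/-- Dimension of a closed subscheme of an irreducible scheme of finite type. -/
theorem dim_lt {G H : Over (Spec (CommRingCat.of k))} [LocallyOfFiniteType G.hom] [QuasiCompact G.hom]
    [IrreducibleSpace G.left] (i : H ⟶ G) [IsClosedImmersion i.left] (h : ¬ Surjective i.left) :
    topologicalKrullDim ↥(H.left) < topologicalKrullDim ↥(G.left) := by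
  have hfin : topologicalKrullDim G.left < ⊤ :=
    Groth.Agent.S11146.topologicalKrullDim_lt_top (R := k) (by rw [ringKrullDim_eq_zero_of_field]; exact WithBot.coe_lt_coe.2 (by simp)) G.hom
  have h1 := Groth.Agent.S10830.result G.left hfin.ne (Set.range i.left) i.left.isClosedEmbedding.isClosed_range
    (fun h2 => h ⟨Set.range_eq_univ.1 h2⟩)
  have e : H.left ≃ₜ Set.range i.left := i.left.isClosedEmbedding.isEmbedding.toHomeomorph
  rw [IsHomeomorph.topologicalKrullDim_eq e e.isHomeomorph]
  exact h1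

/-- A quotient with a surjective kernel has one point. -/
theorem subsingleton_of_kernel {k : Type u} [Field k] {F G Q : Over (Spec (CommRingCat.of k))} [GrpObj Q]
    (j : F ⟶ G) (q : G ⟶ Q) [Surjective j.left] [Surjective q.left] (h : j ≫ q = 1) : Subsingleton Q.left := by
  have hsurj : Surjective (j ≫ q).left := by
    rw [Over.comp_left]; infer_instance
  have hs : Subsingleton (𝟙_ (Over (Spec (CommRingCat.of k)))).left :=
    inferInstanceAs (Subsingleton (PrimeSpectrum k))
  have hone : ∀ y : Q.left, ∃ a, (η[Q] : 𝟙_ _ ⟶ Q).left a = y := by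
    intro y
    obtain ⟨a, rfl⟩ := hsurj.surj y
    refine ⟨(toUnit F).left a, ?_⟩
    rw [h, Hom.one_def, Over.comp_left, Scheme.Hom.comp_apply]
  refine ⟨fun a b => ?_⟩
  obtain ⟨a', rfl⟩ := hone a
  obtain ⟨b', rfl⟩ := hone b
  rw [Subsingleton.elim a' b']

theorem main (G : Over (Spec (CommRingCat.of k))) [GrpObj G] [IsCommMonObj G] [LocallyOfFiniteType G.hom] [QuasiCompact G.hom]
    [ConnectedSpace ↥(G.left)]
    (hred : ¬ ∃ (H : Over (Spec (CommRingCat.of k))) (_ : GrpObj H) (i : H ⟶ G) (_ : IsMonHom i),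
      IsClosedImmersion i.left ∧ Smooth H.hom ∧ Surjective i.left) :
    ∃ (k' : Type u) (_ : Field k') (_ : Algebra k k') (_ : FiniteDimensional k k') (_ : IsPurelyInseparable k k')
      (I' : Over (Spec (CommRingCat.of k'))) (_ : GrpObj I') (_ : IsCommMonObj I') (_ : IsFinite I'.hom) (_ : Subsingleton ↥(I'.left))
      (φ : CGrpSh.pts Scheme.fppfPrecoverage G ⟶
        (BigSite.pushBig Scheme.fppfPrecoverage (Spec.map (CommRingCat.ofHom (algebraMap k k'))) AddCommGrpCat.{u+1}).obj (CGrpSh.pts Scheme.fppfPrecoverage I'))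
      (H : Over (Spec (CommRingCat.of k))) (_ : GrpObj H) (_ : IsCommMonObj H) (j : H ⟶ G) (_ : IsMonHom j) (w : CGrpSh.ptsMap Scheme.fppfPrecoverage j ≫ φ = 0),
      IsClosedImmersion j.left ∧ (ShortComplex.mk (CGrpSh.ptsMap Scheme.fppfPrecoverage j) φ w).Exact ∧
      topologicalKrullDim ↥(H.left) < topologicalKrullDim ↥(G.left) := by
  obtain ⟨k', _, _, hfd, hpi, F, gF, j₀, hj, hjc, hjs, hsm, hFr⟩ := exists_smooth_red G
  let f := bs k k'
  have hcG' : IsCommMonObj (Red.bc f G) := inferInstance
  have hlG' : LocallyOfFiniteType (Red.bc f G).hom := inferInstanceAs (LocallyOfFiniteType (pullback.snd _ _))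
  have hqG' : QuasiCompact (Red.bc f G).hom := inferInstanceAs (QuasiCompact (pullback.snd _ _))
  have hmono₀ : Mono j₀ := Over.mono_of_mono_left j₀
  have halgF : Groth.Agent.Sga3.H830.AlgGrpAb.IsAlg F := Groth.Agent.Sga3.H830.AlgGrpAb.isAlg_of_isClosedImmersion j₀ ⟨hlG', hqG'⟩
  obtain ⟨Q, gQ, q, hq, ⟨hfl, hsj, hlfp⟩, hker, hQl, hQq⟩ :=
    Groth.Agent.Sga3.H830.AlgGrpAb.exists_quotient halgF ⟨hlG', hqG'⟩ j₀
  have hqc : QuasiCompact q.left := Groth.Agent.Sga3.H830.AlgGrpAb.quasiCompact_left ⟨hlG', hqG'⟩ ⟨hQl, hQq⟩ q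
  have hcQ : IsCommMonObj Q := by
    have hst : MorphismProperty.IsStableUnderComposition (@Surjective : MorphismProperty Scheme.{u}) :=
      ⟨fun f g hf hg => ⟨hg.surj.comp hf.surj⟩⟩
    have h2f : Flat (q ⊗ₘ q).left := K404.Desc.tensorHom_left_of (@Flat) q q ‹_› ‹_›
    have h2s : Surjective (q ⊗ₘ q).left := K404.Desc.tensorHom_left_of (@Surjective) q q ‹_› ‹_›
    have h2c : QuasiCompact (q ⊗ₘ q).left :=
      K404.Desc.tensorHom_left_of (@QuasiCompact) q q inferInstance inferInstance
    have := K404.Desc.epi_of (q ⊗ₘ q)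
    exact K809.FieldSeq.isCommMonObj_of_epi q
  have hsub : Subsingleton Q.left := subsingleton_of_kernel j₀ q (K404.Desc.ker_eq_one hker)
  have hfin : IsFinite Q.hom := Groth.Agent.S6084.finite_of_subsingleton k' Q.left Q.hom
  obtain ⟨W, gW, e, hcW, hlW, he, hW⟩ := Groth.Agent.AbVar.K509.WeilLft.exists_weil_grp k k' Q
  let u : G ⟶ W := hW.lift G q
  have hu : WeilRes.restr _ e G u = q := hW.restr_lift G q
  have hu' : ∀ (T : Over (Spec (CommRingCat.of k))) (x : T ⟶ G), WeilRes.restr _ e T (x ≫ u) = (Over.pullback f).map x ≫ q := by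
    intro T x
    rw [WeilRes.restr_comp, hu]
  have hum : IsMonHom u := by
    apply Groth.Agent.AbVar.K509.HomPts.isMonHom_of_mul
    apply (hW _).1
    rw [WeilRes.restr_mul, hu', hu', hu', Functor.map_mul, MonObj.mul_comp]
  obtain ⟨H, gH, i, hi, hpb⟩ := Groth.Agent.Grpsch.KerMul.exists_kernel u
  have hiu : i ≫ u = 1 := K404.Desc.ker_eq_one hpb
  have hmi : Mono i := K404.Desc.mono_ker hpb
  have hcH : IsCommMonObj H := K267.DeligneSch.isCommMonObj_of_iso i
  have hpb' : IsPullback i.left (toUnit H).left u.left η[W].left := hpb.map (Over.forget _)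
  have hη : IsClosedImmersion (η[W] : 𝟙_ (Over (Spec (CommRingCat.of k))) ⟶ W).left := by
    have hs : IsSeparated W.hom := Groth.Agent.Books.AntiAffine.isSeparated_hom W
    have h1 : IsClosedImmersion ((η[W] : 𝟙_ (Over (Spec (CommRingCat.of k))) ⟶ W).left ≫ W.hom) := by
      rw [Over.w]; exact inferInstanceAs (IsClosedImmersion (𝟙 _))
    exact IsClosedImmersion.of_comp _ W.hom
  have hic : IsClosedImmersion i.left := MorphismProperty.of_isPullback hpb'.flip hη
  let φ : CGrpSh.pts Scheme.fppfPrecoverage G ⟶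
        (BigSite.pushBig Scheme.fppfPrecoverage (Spec.map (CommRingCat.ofHom (algebraMap k k'))) AddCommGrpCat.{u+1}).obj (CGrpSh.pts Scheme.fppfPrecoverage Q) :=
    CGrpSh.ptsMap Scheme.fppfPrecoverage u ≫ (WeilRes.ptsIso _ Scheme.fppfPrecoverage hW).hom
  have w : CGrpSh.ptsMap Scheme.fppfPrecoverage i ≫ φ = 0 := by
    rw [← Category.assoc, ← CGrpSh.ptsMap_comp]
    have h1 : CGrpSh.ptsMap Scheme.fppfPrecoverage (i ≫ u) = 0 := by
      refine Sheaf.hom_ext (NatTrans.ext (funext fun T => AddCommGrpCat.ext fun x => ULift.ext _ _ ?_))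
      change Additive.ofMul (x.down.toMul ≫ i ≫ u) = 0
      rw [hiu, MonObj.comp_one]
      rfl
    rw [h1, zero_comp]
  refine ⟨k', inferInstance, inferInstance, hfd, hpi, Q, gQ, hcQ, hfin, hsub, φ, H, gH, hcH, i, hi, w, hic, ?_, ?_⟩
  · apply K731.Basic.exact_of_sections
    intro T x hx
    have h1 : WeilRes.restr _ e T (x.down.toMul ≫ u) = 1 := by
      have := congrArg (fun z => Additive.toMul (ULift.down z)) hx
      exact this
    have h2 : (x.down.toMul : T ⟶ G) ≫ u = 1 := by
      apply (hW T).1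
      rw [h1, WeilRes.restr_one]
    obtain ⟨y, hy⟩ := K404.Desc.exists_lift_ker hpb _ h2
    exact ⟨ULift.up (Additive.ofMul y), ULift.ext _ _ (congrArg Additive.ofMul hy)⟩
  · have hirr : IrreducibleSpace G.left := Groth.Agent.S0348.result k G
    apply dim_lt i
    intro hs
    apply hred
    refine ⟨H, gH, i, hi, hic, ?_, hs⟩
    -- the base change of `H` is `F`
    have h1 : (Over.pullback f).map i ≫ q = 1 := by
      rw [← hu', hiu, WeilRes.restr_one]
    obtain ⟨y, hy⟩ := K404.Desc.exists_lift_ker hker _ h1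
    have hsq := Groth.Agent.Grpsch.AbBC.isPullback_pullback_map f i
    have h2 : IsClosedImmersion ((Over.pullback f).map i).left := MorphismProperty.of_isPullback hsq.flip hic
    have h3 : Surjective ((Over.pullback f).map i).left := MorphismProperty.of_isPullback hsq.flip hs
    have hy' : y.left ≫ j₀.left = ((Over.pullback f).map i).left := by rw [← Over.comp_left, hy]
    have h4 : IsClosedImmersion y.left := by
      have : IsClosedImmersion (y.left ≫ j₀.left) := by rw [hy']; exact h2
      exact IsClosedImmersion.of_comp y.left j₀.left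
    have h5 : Surjective y.left := by
      refine ⟨fun a => ?_⟩
      obtain ⟨b, hb⟩ := h3.surj (j₀.left a)
      refine ⟨b, j₀.left.isClosedEmbedding.injective ?_⟩
      rw [← Scheme.Hom.comp_apply, hy', hb]
    have h7 : IsIso y.left := isIso_of_isClosedImmersion_of_surjective y.left
    have h8 : Smooth (Red.bc f H).hom := by
      rw [← Over.w y]
      infer_instance
    have h9 : Smooth (pullback.snd H.hom f) := h8
    exact MorphismProperty.of_pullback_snd_of_descendsAlong (P := @Smooth) (Q := @Surjective ⊓ @Flat ⊓ @QuasiCompact)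
      ⟨⟨inferInstance, inferInstance⟩, inferInstance⟩ h9

end K770.InsepKer
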